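import Groth.Agent.DepthLib.GeomRkOpen
import Groth.Agent.DepthLib.ModOpenAt
import Groth.Agent.DepthLib.SkFieldExt
import Groth.Agent.NormalLib.NormalRing
import Groth.Agent.EquidimLib.Points
import Groth.Agent.FlatLib.FlatLocusScheme
import Groth.Agent.CatLib.More
import Groth.Agent.CatLib.Univ
import Groth.Agent.JacDimLib.Inherit
import Groth.Agent.SMTLib.CMFree
import Groth.Agent.S1717
import Groth.Agent.RefHullLib.NormalHull
import Groth.Prelude.Def_RelCanon

/-!
# Neighbourhoods of points where the fibre satisfies Serre's condition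
-/

set_option autoImplicit false
set_option linter.style.haveILetI false
set_option linter.unusedSectionVars false
set_option backward.isDefEq.respectTransparency false
set_option backward.isDefEq.respectTransparency.types false
set_option maxHeartbeats 1000000
set_option synthInstance.maxHeartbeats 200000

noncomputable section

universe u

open CategoryTheory CategoryTheory.Limits AlgebraicGeometry Topology TopologicalSpace
open Groth.Agent

namespace QGorNhdLib

variable {Y T : Scheme.{u}} (f : Y ⟶ T)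

/-- Local rings of schemes of finite type over a field are catenary. -/
theorem isCatenary_stalk {K : Type u} [Field K] {F : Scheme.{u}} (q : F ⟶ Spec (CommRingCat.of K))
    [LocallyOfFiniteType q] (w : F) : CAlg.IsCatenary (F.presheaf.stalk w) := by
  haveI : LocCoh.IsCohenMacaulayRing K := SMTLib.isCohenMacaulayRing_of_flat (P := K) (R := K)
  have hK : CAlg.IsUniversallyCatenary K :=
    CatLib.isUniversallyCatenary_of_isCMRing (CatLib.isCMRing_iff.2 inferInstance)
  haveI : IsNoetherianRing (CommRingCat.of K) := inferInstanceAs (IsNoetherianRing K)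
  letI := (Spec (CommRingCat.of K)).presheaf.algebra_section_stalk (U := ⊤) ⟨q w, trivial⟩
  have hS : CAlg.IsUniversallyCatenary ((Spec (CommRingCat.of K)).presheaf.stalk (q w)) := by
    letI : Algebra K ((Spec (CommRingCat.of K)).presheaf.stalk (q w)) :=
      StructureSheaf.stalkAlgebra K (q w)
    haveI : IsLocalization.AtPrime ((Spec (CommRingCat.of K)).presheaf.stalk (q w)) (q w).asIdeal :=
      StructureSheaf.IsLocalization.to_stalk K (q w)
    exact CatLib.isUniversallyCatenary_of_isLocalization (q w).asIdeal.primeCompl _ hK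
  have h := JacDimLib.isUniversallyCatenary_stalk_of_lft q w hS
  exact h.2 _ inferInstance

/-- Serre's condition only depends on the ring up to isomorphism. -/
theorem hasSk_self_congr {R R' : Type u} [CommRing R] [IsNoetherianRing R] [CommRing R'] [IsNoetherianRing R']
    (e : R ≃+* R') {k : ℕ} (h : LocCoh.HasSk k R R) : LocCoh.HasSk k R' R' := by
  intro p hp
  let q := p.comap e.toRingHom
  haveI : q.IsPrime := hp.comap e.toRingHom
  let eL : Localization.AtPrime q ≃+* Localization.AtPrime p :=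
    IsLocalization.ringEquivOfRingEquiv (Localization.AtPrime q) (Localization.AtPrime p) e
      (show Submonoid.map e.toMonoidHom q.primeCompl = p.primeCompl from Submonoid.ext fun x => ⟨fun hx => by
          obtain ⟨y, hy, rfl⟩ := hx
          exact hy,
        fun hx => ⟨e.symm x, fun h => hx (by
          have h' : e (e.symm x) ∈ p := h
          rwa [e.apply_symm_apply] at h'), e.apply_symm_apply x⟩⟩)
  exact (DepthLib.min_supportDim_le_depth_localized_iff R' k p (RingEquiv.refl _)).2
    (DepthLib.min_dim_le_depth_congr eL k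
      ((DepthLib.min_supportDim_le_depth_localized_iff R k q (RingEquiv.refl _)).1 (h q)))

theorem le_of_eq_add {e n r : ℕ} {a b : WithBot ℕ∞} (e1 : (e : WithBot ℕ∞) = (n : WithBot ℕ∞) + a)
    (e2 : (e : WithBot ℕ∞) = (r : WithBot ℕ∞) + b) (h : r ≤ n) : a ≤ b := by
  induction a using WithBot.recBotCoe with
  | bot => exact bot_le
  | coe a =>
    induction b using WithBot.recBotCoe with
    | bot => exact absurd e2 (WithBot.coe_ne_bot)
    | coe b =>
      have e1' : (e : ℕ∞) = n + a := WithBot.coe_inj.1 e1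
      have e2' : (e : ℕ∞) = r + b := WithBot.coe_inj.1 e2
      have ha : a ≠ ⊤ := fun h => by rw [h, add_top] at e1'; exact ENat.coe_ne_top _ e1'
      have hb : b ≠ ⊤ := fun h => by rw [h, add_top] at e2'; exact ENat.coe_ne_top _ e2'
      lift a to ℕ using ha
      lift b to ℕ using hb
      have i1 : e = n + a := by exact_mod_cast e1'
      have i2 : e = r + b := by exact_mod_cast e2'
      exact WithBot.coe_le_coe.2 (Nat.cast_le.2 (by omega))

/-- The stalks of the fibres are unchanged on an open subscheme. -/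
theorem nonempty_fibre_stalk_opens (U : Y.Opens) (u : U) :
    Nonempty (((U.ι ≫ f).fiber ((U.ι ≫ f) u)).presheaf.stalk ((U.ι ≫ f).asFiber u) ≃+*
      (f.fiber (f (U.ι u))).presheaf.stalk (f.asFiber (U.ι u))) := by
  let s := (U.ι ≫ f) u
  let p := MoreMor.fiberMap U.ι f s
  haveI : IsOpenImmersion p :=
    MorphismProperty.of_isPullback (P := @IsOpenImmersion) (FlatLib.isPullback_fiberMap U.ι f s) inferInstance
  let w := (U.ι ≫ f).asFiber u
  have hpw : f.fiberι s (p w) = U.ι u := by
    have h := congrArg (fun h => h w) (FlatLib.fiberMap_ι U.ι f s)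
    simp only [Scheme.Hom.comp_apply] at h
    exact h.trans (congrArg U.ι ((U.ι ≫ f).fiberι_asFiber u))
  have key : ∀ (v : f.fiber s), f.fiberι s v = U.ι u →
      Nonempty ((f.fiber s).presheaf.stalk v ≃+* (f.fiber (f (U.ι u))).presheaf.stalk (f.asFiber (U.ι u))) := by
    intro v hv
    have hs : f (U.ι u) = s := rfl
    revert v hv
    rw [← hs]
    intro v hv
    obtain rfl : v = f.asFiber (U.ι u) :=
      (f.fiberι _).isEmbedding.injective (hv.trans (f.fiberι_asFiber _).symm)
    exact ⟨RingEquiv.refl _⟩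
  obtain ⟨e⟩ := key (p w) hpw
  exact ⟨(asIso (p.stalkMap w)).commRingCatIsoToRingEquiv.symm.trans e⟩

variable [IsLocallyNoetherian Y] [IsLocallyNoetherian T] [Flat f] [LocallyOfFiniteType f]

theorem isLFP : LocallyOfFinitePresentation f :=
  UOpenLib.locallyOfFinitePresentation_of_isLocallyNoetherian f

/-- A point with `(S₂)` fibre has equidimensional fibre. -/
theorem isEquidimModule_of_skAt {k : ℕ} (hk : 2 ≤ k) (y : Y)
    (hy : RelCanon.SkAt k (Coh.structureModule (f.fiber (f y))) (f.asFiber y)) :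
    EGA4.IsEquidimModule ((f.fiber (f y)).presheaf.stalk (f.asFiber y))
        (((Scheme.Modules.pullback (f.fiberι (f y))).obj (Coh.structureModule Y)).presheaf.stalk (f.asFiber y)) ∧
      LocCoh.HasSk k ((f.fiber (f y)).presheaf.stalk (f.asFiber y))
        (((Scheme.Modules.pullback (f.fiberι (f y))).obj (Coh.structureModule Y)).presheaf.stalk (f.asFiber y)) := by
  haveI := UOpenLib.lft_fiberToSpec f (f y)
  haveI : IsLocallyNoetherian (f.fiber (f y)) :=
    LocallyOfFiniteType.isLocallyNoetherian (f.fiberToSpecResidueField (f y))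
  obtain ⟨e⟩ := DepthLib.nonempty_pullback_unit_stalk (f.fiberι (f y)) (f.asFiber y)
  obtain ⟨e₀⟩ := RefHullLib.nonempty_stalk_unit (f.fiber (f y)) (f.asFiber y)
  have h : LocCoh.HasSk k ((f.fiber (f y)).presheaf.stalk (f.asFiber y))
      ((f.fiber (f y)).presheaf.stalk (f.asFiber y)) := DepthLib.hasSk_congr e₀.symm k hy
  refine ⟨(DepthLib.isEquidim_iff_isEquidimModule _ e).1 fun q hq => ?_, DepthLib.hasSk_congr e.symm k h⟩
  exact Groth.Agent.S1717.result _
    (isCatenary_stalk (f.fiberToSpecResidueField (f y)) (f.asFiber y)) (NormalLib.hasSk_mono hk h)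
    q hq

/-- Around a point with `(S_k)` fibre the fibres are `(S_k)` of constant local dimension. -/
theorem exists_open_skAt {k : ℕ} (hk : 2 ≤ k) (y : Y)
    (hy : RelCanon.SkAt k (Coh.structureModule (f.fiber (f y))) (f.asFiber y)) :
    ∃ (O : Y.Opens) (e : ℕ), y ∈ O ∧ ∀ z ∈ O, FlatMor.fibreDimAt f z = e ∧
      LocCoh.HasSk k ((f.fiber (f z)).presheaf.stalk (f.asFiber z))
        ((f.fiber (f z)).presheaf.stalk (f.asFiber z)) := by
  haveI := isLFP f
  haveI : Coh.IsQCoh (Coh.structureModule Y) := QCohLib.isQCoh_unit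
  haveI := DepthLib.isFP_structureModule (X := Y)
  have hFP : CohB1.IsFP (Coh.structureModule Y) := DepthLib.isFP_structureModule
  have hFT : CohB1.IsFT (Coh.structureModule Y) := inferInstance
  have hflat : FlatMod.IsFlatOver f (Coh.structureModule Y) := fun x =>
    (DepthLib.isFlatOverAt_structureModule_iff f x).2 (Flat.stalkMap f x)
  obtain ⟨e, he⟩ := UOpenLib.exists_fibreDimAt_eq_nat f y
  let G : Set Y := {x | (EGA4.IsEquidimModule ((f.fiber (f x)).presheaf.stalk (f.asFiber x))
        (((Scheme.Modules.pullback (f.fiberι (f x))).obj (Coh.structureModule Y)).presheaf.stalk (f.asFiber x)) ∧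
      LocCoh.HasSk k ((f.fiber (f x)).presheaf.stalk (f.asFiber x))
        (((Scheme.Modules.pullback (f.fiberι (f x))).obj (Coh.structureModule Y)).presheaf.stalk (f.asFiber x))) ∧
    DepthLib.suppDimAt f (Coh.structureModule Y) x = (e : WithBot ℕ∞)}
  have hG : IsOpen G := by
    refine DepthLib.isOpen_of_generization
      (((DepthLib.isLocallyConstructible_equidimModule f _ hFP hFT).inter
        (DepthLib.isLocallyConstructible_hasSk_mod f _ hFP hFT k)).inter
        (DepthLib.isLocallyConstructible_suppDimAt_eq f _ hFP hFT e)) ?_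
    rintro x' x hsp ⟨hx, hxe⟩
    refine ⟨hsp.mem_open (DepthLib.isOpen_equidim_hasSk_mod f _ hFP hFT hflat k (by omega)) hx, ?_⟩
    obtain ⟨ex⟩ := DepthLib.nonempty_pullback_unit_stalk (f.fiberι (f x)) (f.asFiber x)
    haveI := UOpenLib.lft_fiberToSpec f (f x)
    haveI : IsLocallyNoetherian (f.fiber (f x)) :=
      LocallyOfFiniteType.isLocallyNoetherian (f.fiberToSpecResidueField (f x))
    exact (DepthLib.suppDimAt_eq_of_specializes_at f _ hFP hFT hsp (DepthLib.mem_support_structureModule f x')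
      (hflat x) hx.1 (DepthLib.hasSk_congr ex.symm 1 (NormalLib.hasSk_mono (by omega)
        (DepthLib.hasSk_congr ex k hx.2)))).trans hxe
  refine ⟨⟨G, hG⟩, e, ⟨isEquidimModule_of_skAt f hk y hy, (DepthLib.suppDimAt_structureModule f y).trans he⟩,
    fun z hz => ⟨(DepthLib.suppDimAt_structureModule f z).symm.trans hz.2, ?_⟩⟩
  obtain ⟨ez⟩ := DepthLib.nonempty_pullback_unit_stalk (f.fiberι (f z)) (f.asFiber z)
  exact DepthLib.hasSk_congr ez k hz.1.2

/-- The neighbourhood with `(S_k)` fibres of pure dimension keeping the codimension of a closed set. -/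
theorem exists_nhd {k : ℕ} (hk : 2 ≤ k) (y : Y)
    (hy : RelCanon.SkAt k (Coh.structureModule (f.fiber (f y))) (f.asFiber y)) (Yo : Y.Opens) (hyo : y ∉ Yo)
    {c : WithBot ℕ∞}
    (hc : ∀ z : Y, f z = f y → z ∉ Yo → z ⤳ y → c ≤ ringKrullDim ((f.fiber (f z)).presheaf.stalk (f.asFiber z))) :
    ∃ U : Y.Opens, y ∈ U ∧ RelCanon.IsSkMor (U.ι ≫ f) k ∧ (∃ e : ℕ, Cyc.HasRelDim (U.ι ≫ f) e) ∧
      ∀ z : Y, z ∈ U → z ∉ Yo → c ≤ ringKrullDim ((f.fiber (f z)).presheaf.stalk (f.asFiber z)) := by
  obtain ⟨O, e, hyO, hO⟩ := exists_open_skAt f hk y hy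
  let I := Scheme.IdealSheafData.vanishingIdeal
    (⟨(Yo : Set Y)ᶜ, Yo.isOpen.isClosed_compl⟩ : TopologicalSpace.Closeds Y)
  let j := I.subschemeι
  have hr : Set.range j.base = (Yo : Set Y)ᶜ := by
    rw [Scheme.IdealSheafData.range_subschemeι]
    rfl
  obtain ⟨w, hw⟩ : y ∈ Set.range j.base := hr ▸ hyo
  obtain ⟨e₀, he₀⟩ := UOpenLib.exists_fibreDimAt_eq_nat (j ≫ f) w
  obtain ⟨V, hV, hVj⟩ := j.isEmbedding.isInducing.isOpen_iff.1
    (FibDimLib.isOpen_fibreDimAt_le (j ≫ f) (e₀ : WithBot ℕ∞))
  have hyV : y ∈ V := by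
    have : w ∈ j.base ⁻¹' V := by rw [hVj]; exact he₀.le
    rwa [Set.mem_preimage, hw] at this
  let U : Y.Opens := O ⊓ ⟨V, hV⟩
  haveI : LocallyOfFiniteType (U.ι ≫ f) := inferInstance
  haveI : IsLocallyNoetherian (U : Scheme.{u}) := inferInstance
  refine ⟨U, ⟨hyO, hyV⟩, ⟨inferInstance, inferInstance, fun u => ?_⟩, ⟨e, fun s T hT => ?_⟩, fun z hz hzo => ?_⟩
  · haveI := UOpenLib.lft_fiberToSpec (U.ι ≫ f) ((U.ι ≫ f) u)
    haveI : IsLocallyNoetherian ((U.ι ≫ f).fiber ((U.ι ≫ f) u)) :=
      LocallyOfFiniteType.isLocallyNoetherian ((U.ι ≫ f).fiberToSpecResidueField ((U.ι ≫ f) u))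
    haveI := UOpenLib.lft_fiberToSpec f (f (U.ι u))
    haveI : IsLocallyNoetherian (f.fiber (f (U.ι u))) :=
      LocallyOfFiniteType.isLocallyNoetherian (f.fiberToSpecResidueField (f (U.ι u)))
    obtain ⟨r⟩ := nonempty_fibre_stalk_opens f U u
    obtain ⟨e₁⟩ := RefHullLib.nonempty_stalk_unit ((U.ι ≫ f).fiber ((U.ι ≫ f) u)) ((U.ι ≫ f).asFiber u)
    exact DepthLib.hasSk_congr e₁ k (hasSk_self_congr r.symm (hO _ u.2.1).2)
  · let g := U.ι ≫ f
    obtain ⟨v, hv⟩ := QuasiSober.sober hT.1 (isClosed_of_mem_irreducibleComponents _ hT)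
    obtain rfl : T = closure {v} := hv.def.symm
    have hmax := UOpenLib.max_of_closure_mem g hT
    let u := g.fiberι s v
    have hu : g u = s := (g.range_fiberι s).le ⟨v, rfl⟩
    have h1 : UOpenLib.fibreClosureDim g u = topologicalKrullDim ↥(closure ({v} : Set (g.fiber s))) :=
      UOpenLib.fibreClosureDim_fiberι g s v
    rw [← h1, ← UOpenLib.fibreDimAt_eq_of_max g hmax, FibDimLib.fibreDimAt_comp_isOpenImmersion]
    exact (hO _ u.2.1).1
  · obtain ⟨w', hw'⟩ : z ∈ Set.range j.base := hr ▸ hzo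
    have h2 : FlatMor.fibreDimAt (j ≫ f) w' ≤ (e₀ : WithBot ℕ∞) := by
      have : w' ∈ j.base ⁻¹' V := by rw [Set.mem_preimage, hw']; exact hz.2
      rwa [hVj] at this
    obtain ⟨w₀, hw₀f, hw₀w, -, hw₀d⟩ := UOpenLib.exists_max_fibreDimAt (j ≫ f) w
    have hc₀ := hc (j w₀) (by
        rw [← Scheme.Hom.comp_apply, hw₀f, Scheme.Hom.comp_apply, hw])
      (hr.le ⟨w₀, rfl⟩) (by have := hw₀w.map j.continuous; rwa [hw] at this)
    have key : ∀ x : Y, x ∈ O → (e : WithBot ℕ∞) =
        UOpenLib.fibreClosureDim f x + ringKrullDim ((f.fiber (f x)).presheaf.stalk (f.asFiber x)) := fun x hx =>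
      (hO x hx).1.symm.trans (EquidimLib.fibreDimAt_eq_add_stalk f x)
    have hj0 : (j w₀) ∈ O := (hw ▸ hw₀w.map j.continuous).mem_open O.2 hyO
    have e1 := key _ hj0
    have e2 := key z hz.1
    rw [← EquidimLib.fibreClosureDim_closedImmersion j f w₀, hw₀d, he₀] at e1
    obtain ⟨r, hr'⟩ := UOpenLib.exists_fibreClosureDim_eq_nat f z
    rw [hr'] at e2
    have h3 : (r : WithBot ℕ∞) ≤ (e₀ : WithBot ℕ∞) := by
      refine le_trans ?_ ((UOpenLib.fibreClosureDim_le_fibreDimAt (j ≫ f) specializes_rfl).trans h2)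
      rw [EquidimLib.fibreClosureDim_closedImmersion j f w', hw', hr']
    refine hc₀.trans ?_
    exact le_of_eq_add e1 e2 (by exact_mod_cast h3)

end QGorNhdLib
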